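import Groth.Agent.Models7.DivSeq
import Groth.Agent.Models7.EulerFibre
import Groth.Agent.JetDeg19179.Thick
import Groth.Agent.Inters29.GenTriv
import Groth.Agent.Inters29.FibrePullback
import Groth.Agent.EulerLib.IntPoly
import Groth.Agent.AmpleLib.Power

/-!
# Euler characteristics of a multiple special fibre
-/

set_option autoImplicit false
set_option linter.style.haveILetI false
set_option linter.unusedSectionVars false
set_option backward.isDefEq.respectTransparency false
set_option backward.isDefEq.respectTransparency.types false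
set_option maxHeartbeats 1000000

universe u

open CategoryTheory CategoryTheory.Limits AlgebraicGeometry Opposite TopologicalSpace
open Groth.Agent.Coherent Groth.Agent.PicLib Groth.Agent.AmpleLib Groth.Agent.EulerLib

namespace Groth.Agent.EulerMult7

section Descent

variable {X Z : Scheme.{u}} (i : Z ⟶ X) [IsClosedImmersion i]

theorem isIso_clUnit_of_iso_push {M : X.Modules} {N : Z.Modules} (e : M ≅ (Coh.push i).obj N) :
    IsIso (clUnit i M) := by
  have h1 : IsIso ((Scheme.Modules.pullbackPushforwardAdjunction i).unit.app ((Coh.push i).obj N)) :=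
    IsIso.of_isIso_fac_right ((Scheme.Modules.pullbackPushforwardAdjunction i).right_triangle_components N)
  haveI := h1
  exact (NatTrans.isIso_app_iff_of_iso ((Scheme.Modules.pullbackPushforwardAdjunction i).unit) e).2 h1

/-- The pullback of a module pushed forward from the closed subscheme. -/
noncomputable def pullPushIso {M : X.Modules} {N : Z.Modules} (e : M ≅ (Coh.push i).obj N) :
    (Scheme.Modules.pullback i).obj M ≅ N :=
  (Scheme.Modules.pullback i).mapIso e ≪≫ asIso ((Scheme.Modules.pullbackPushforwardAdjunction i).counit.app N)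

theorem shortExact_pull {S : ShortComplex X.Modules} (hS : S.ShortExact) {N₁ N₂ : Z.Modules}
    (e₁ : S.X₁ ≅ (Coh.push i).obj N₁) (e₂ : S.X₂ ≅ (Coh.push i).obj N₂) :
    (S.map (Scheme.Modules.pullback i)).ShortExact := by
  haveI := isIso_clUnit_of_iso_push i e₁
  haveI := isIso_clUnit_of_iso_push i e₂
  haveI := hS.mono_f
  haveI := hS.epi_g
  haveI : PreservesColimitsOfSize.{0, 0} (Scheme.Modules.pullback i) :=
    (Scheme.Modules.pullbackPushforwardAdjunction i).leftAdjoint_preservesColimits
  haveI hm : Mono ((Coh.push i).map ((Scheme.Modules.pullback i).map S.f)) := by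
    have h : (Coh.push i).map ((Scheme.Modules.pullback i).map S.f) =
        inv (clUnit i S.X₁) ≫ S.f ≫ clUnit i S.X₂ := by
      rw [IsIso.eq_inv_comp]
      exact ((Scheme.Modules.pullbackPushforwardAdjunction i).unit.naturality S.f).symm
    rw [h]
    infer_instance
  exact
    { exact := ShortComplex.exact_of_g_is_cokernel _
        (CokernelCofork.mapIsColimit _ hS.gIsCokernel (Scheme.Modules.pullback i))
      mono_f := (Coh.push i).mono_of_mono_map hm
      epi_g := (inferInstance : Epi ((Scheme.Modules.pullback i).map S.g)) }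

end Descent

section Poly

/-- A periodic function with polynomial values is constant. -/
theorem eq_zero_of_periodic (f : ℕ → ℤ) (m : ℕ) (hm : 1 ≤ m) (hper : ∀ n, f (n + m) = f n)
    (P : Polynomial ℚ) (hP : ∀ n : ℕ, (f n : ℚ) = P.eval (n : ℚ)) : ∀ n, f n = f 0 := by
  have hmul : ∀ t, f (t * m) = f 0 := by
    intro t
    induction t with
    | zero => simp
    | succ t ih => rw [Nat.succ_mul, hper, ih]
  have hPC : P = Polynomial.C (f 0 : ℚ) := by
    refine Polynomial.eq_of_infinite_eval_eq _ _ (Set.infinite_of_injective_forall_mem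
      (f := fun t : ℕ => ((t * m : ℕ) : ℚ)) (fun a b h => ?_) fun t => ?_)
    · exact Nat.eq_of_mul_eq_mul_right (by omega) (Nat.cast_injective h)
    · rw [Set.mem_ofPred_eq, ← hP, hmul, Polynomial.eval_C]
  intro n
  have h := hP n
  rw [hPC, Polynomial.eval_C] at h
  exact_mod_cast h

/-- The Euler characteristics of the powers of a torsion invertible class are constant. -/
theorem chiCl_pow_eq (k : Type u) [Field k] (D : Scheme.{u}) [D.Over (Spec (CommRingCat.of k))]
    [IsProper (D ↘ Spec (CommRingCat.of k))] {F : D.Modules} (hF : Coh.IsCoh F) (c : InvCl D) (m : ℕ)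
    (hm : 1 ≤ m) (hc : c ^ m = 1) (n : ℕ) : chiCl k F (c ^ n) = chiCl k F 1 := by
  obtain ⟨r, hr⟩ := exists_dim_le k (X := D) (CohB1.support F)
  obtain ⟨P, -, hP⟩ := snapper k hF hr ![c]
  have h := eq_zero_of_periodic (fun n => chiCl k F (c ^ n)) m hm
    (fun n => by rw [pow_add, hc, mul_one])
    (MvPolynomial.aeval (fun _ => Polynomial.X) P) (fun j => by
      have h := hP fun _ => j
      rw [Fin.prod_univ_one] at h
      simp only [Matrix.cons_val_zero] at h
      rw [h]
      show _ = (Polynomial.aeval (j : ℚ)) (MvPolynomial.aeval (fun _ => Polynomial.X) P)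
      rw [MvPolynomial.comp_aeval_apply]
      simp only [Polynomial.aeval_X]
      rfl) n
  rwa [pow_zero] at h

/-- The Euler characteristic of an invertible module, as a function of its class. -/
theorem chiCl_structure_mk (k : Type u) [Field k] (D : Scheme.{u}) [D.Over (Spec (CommRingCat.of k))]
    (N : D.Modules) (hN : PicF.IsInvertible N) :
    chiCl k (Coh.structureModule D) (InvCl.mk N hN) = Curv2.euler k D N := by
  rw [chiCl_mk]
  exact euler_congr k D (unitTensorIso N)

end Poly

variable {R : Type u} [CommRing R] [IsDomain R] [IsDiscreteValuationRing R]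
variable {X : Scheme.{u}} (p : X ⟶ Spec (CommRingCat.of R)) [Flat p]

/-- The ideal of the special fibre of a flat scheme is a free module. -/
theorem nonempty_specialFibreIdeal_iso :
    Nonempty (Coh.structureModule X ≅ ClSub.idealMod (Models.specialFibreIdeal R (Over.mk p))) := by
  let J : X.IdealSheafData := Models.specialFibreIdeal R (Over.mk p)
  haveI : Flat (Over.mk p).hom := ‹Flat p›
  obtain ⟨ϖ, hϖ⟩ := IsDiscreteValuationRing.exists_irreducible R
  let π : Γ(X, ⊤) := Inters29.unif R (X := Over.mk p) ϖ
  have hloc : ∀ V : X.affineOpens, ∃ k : Γ(ClSub.idealMod J, V.1),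
      IsGen (ClSub.idealMod J) V.1 k ∧ (ClSub.idealModι J).app V.1 k = PicLib.res le_top π := by
    intro V
    have hreg : (PicLib.res le_top π : Γ(X, V.1)) ∈ nonZeroDivisors Γ(X, V.1) :=
      mem_nonZeroDivisors_iff_right.2 fun a ha =>
        Inters29.regular_unif R (X := Over.mk p) hϖ V.1 V.2 a ((mul_comm _ _).trans ha)
    exact Inters29.exists_gen_idealMod J V hreg (Inters29.specialFibreIdeal_ideal R (X := Over.mk p) hϖ V)
  choose k hk hkι using hloc
  haveI := AmpleLib.mono_idealModι J
  obtain ⟨e, -⟩ := AmpleLib.exists_iso_of_gens (fun V : X.affineOpens => V.1) (iSup_affineOpens_eq_top X)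
    (fun V => oneSec V.1) (fun V => isGen_oneSec V.1) k hk (fun a b W ha hb c hc => by
      apply Coherent.app_injective_of_mono (ClSub.idealModι J) W
      rw [Scheme.Modules.Hom.app_smul, app_resM, app_resM, hkι, hkι]
      show X.presheaf.map (homOfLE ha).op (PicLib.res le_top π) =
        c * X.presheaf.map (homOfLE hb).op (PicLib.res le_top π)
      have h1 : (1 : Γ(X, W)) = c * 1 := by
        refine Eq.trans (Eq.symm ?_) (hc.trans ?_)
        · exact map_one (X.presheaf.map (homOfLE ha).op).hom
        · exact congrArg (c * ·) (map_one (X.presheaf.map (homOfLE hb).op).hom)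
      rw [mul_one] at h1
      rw [← h1, one_mul]
      exact ((ConcreteCategory.congr_hom (X.presheaf.map_comp (homOfLE le_top).op (homOfLE ha).op) π).symm.trans
        (ConcreteCategory.congr_hom (X.presheaf.map_comp (homOfLE le_top).op (homOfLE hb).op) π)))
  exact ⟨e⟩

theorem isZero_quotMod_one [IsLocallyNoetherian X] : IsZero (ClSub.quotMod (1 : X.IdealSheafData)) := by
  let I : X.IdealSheafData := 1
  haveI : IsEmpty I.subscheme := ⟨fun z => by
    have hz : I.subschemeι z ∈ (I.support : Set X) := by
      rw [← Scheme.IdealSheafData.range_subschemeι]; exact ⟨z, rfl⟩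
    simp [I, Scheme.IdealSheafData.one_eq_top] at hz⟩
  refine isZero_of_sections_cover (CurveRR24.isCoh_quotMod I).1 (fun U : X.affineOpens => U.1) (fun U => U.2)
    (fun x => by
      obtain ⟨_, ⟨U, hU, rfl⟩, hxU, -⟩ :=
        X.isBasis_affineOpens.exists_subset_of_mem_open (Set.mem_univ x) isOpen_univ
      exact ⟨⟨U, hU⟩, hxU⟩) fun U => ?_
  show Subsingleton Γ(I.subscheme, I.subschemeι ⁻¹ᵁ U.1)
  rw [show I.subschemeι ⁻¹ᵁ U.1 = ⊥ from Opens.ext (Set.eq_empty_of_isEmpty _)]
  exact CommRingCat.subsingleton_of_isTerminal I.subscheme.sheaf.isTerminalOfEmpty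

variable [IsProper p]

theorem dvd_euler_specialFibre (m : ℕ) (hm : 1 ≤ m) (I : X.IdealSheafData)
    (hI : BlowUp.IsEffCartierIdeal I) (hIm : I ^ m = Models.specialFibreIdeal R (Over.mk p)) :
    (m : ℤ) ∣ @Curv2.euler (IsLocalRing.ResidueField R) _
      (pullback p (Spec.map (CommRingCat.ofHom (IsLocalRing.residue R)))) ⟨pullback.snd p _⟩
      (Coh.structureModule _) := by
  let k := IsLocalRing.ResidueField R
  let c := Spec.map (CommRingCat.ofHom (IsLocalRing.residue R))
  haveI : IsClosedImmersion c := Inters29.isClosedImmersion_residue R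
  let P := pullback p c
  let ι : P ⟶ X := pullback.fst p c
  haveI : IsClosedImmersion ι := MorphismProperty.pullback_fst _ _ inferInstance
  letI : P.Over (Spec (CommRingCat.of k)) := ⟨pullback.snd p c⟩
  haveI : IsProper (P ↘ Spec (CommRingCat.of k)) :=
    MorphismProperty.pullback_snd (P := @IsProper) _ _ inferInstance
  haveI : P.IsSeparated := isSeparated_of_proper (X := P) k
  haveI := CurveRR24.isLocallyNoetherian_of_proper k (X := P)
  haveI : IsLocallyNoetherian X := LocallyOfFiniteType.isLocallyNoetherian p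
  haveI : QuasiCompact (Over.mk p).hom := inferInstanceAs (QuasiCompact p)
  have hker : ι.ker = I ^ m := (Inters29.ker_fst_specialFibre R (X := Over.mk p)).trans hIm.symm
  have hle : ∀ n ≤ m, ι.ker ≤ (I ^ n).subschemeι.ker := by
    intro n hn
    rw [hker, Scheme.IdealSheafData.ker_subschemeι]
    exact pow_le_pow_right_of_le_one' (by rw [Scheme.IdealSheafData.one_eq_top]; exact le_top) hn
  -- the thickenings inside the special fibre
  let b : ∀ n ≤ m, (I ^ n).subscheme ⟶ P := fun n hn => IsClosedImmersion.lift ι _ (hle n hn)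
  have hb : ∀ n hn, b n hn ≫ ι = (I ^ n).subschemeι := fun n hn => IsClosedImmersion.lift_fac _ _ _
  let Q : ∀ n, n ≤ m → P.Modules := fun n hn => (Coh.push (b n hn)).obj (Coh.structureModule _)
  let eQ : ∀ n hn, ClSub.quotMod (I ^ n) ≅ (Coh.push ι).obj (Q n hn) := fun n hn =>
    (Scheme.Modules.pushforwardCongr (hb n hn)).symm.app _ ≪≫ (Scheme.Modules.pushforwardComp (b n hn) ι).symm.app _
  -- the reduced multiple
  have hle1 : ι.ker ≤ I.subschemeι.ker := by simpa using hle 1 hm
  let D := I.subscheme
  let d : D ⟶ P := IsClosedImmersion.lift ι _ hle1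
  have hd : d ≫ ι = I.subschemeι := IsClosedImmersion.lift_fac _ _ _
  haveI : IsClosedImmersion (d ≫ ι) := by rw [hd]; infer_instance
  haveI : IsClosedImmersion d := IsClosedImmersion.of_comp d ι
  letI : D.Over (Spec (CommRingCat.of k)) := ⟨d ≫ (P ↘ Spec (CommRingCat.of k))⟩
  haveI : IsProper (D ↘ Spec (CommRingCat.of k)) :=
    inferInstanceAs (IsProper (d ≫ (P ↘ Spec (CommRingCat.of k))))
  haveI : D.IsSeparated := isSeparated_of_proper (X := D) k
  haveI := CurveRR24.isLocallyNoetherian_of_proper k (X := D)
  let 𝓛 := (Scheme.Modules.pullback I.subschemeι).obj (ClSub.idealMod I)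
  have hIi := FlatMor12.IdealModGen.isInvertible_idealMod _ hI
  have h𝓛 : PicF.IsInvertible 𝓛 := PicLoc.isInvertible_pullback _ hIi
  let cl := InvCl.mk 𝓛 h𝓛
  let f : ℕ → ℤ := fun n => chiCl k (Coh.structureModule D) (cl ^ n)
  have hcl : ∀ n, ∃ h, InvCl.mk ((Scheme.Modules.pullback I.subschemeι).obj (ClSub.idealMod (I ^ n))) h =
      cl ^ n := by
    intro n
    obtain ⟨e⟩ := Lef23.nonempty_idealMod_pow I hI n
    have hp := isInvertible_tensorPow hIi n
    refine ⟨PicLoc.isInvertible_pullback _
      (FlatMor12.IdealModGen.isInvertible_idealMod _ (Inters29.isEffCartier_pow hI n)), ?_⟩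
    rw [InvCl.mk_eq _ (PicLoc.isInvertible_pullback _ hp) ((Scheme.Modules.pullback I.subschemeι).mapIso e)]
    clear e
    induction n with
    | zero =>
      obtain ⟨p0⟩ := exists_pullStructureIso I.subschemeι
      rw [pow_zero]
      exact InvCl.mk_eq _ isInvertible_structureModule p0
    | succ j ih =>
      obtain ⟨e⟩ := exists_pullTensorIso I.subschemeι (isInvertible_tensorPow hIi j) hIi
      rw [pow_succ, ← ih (isInvertible_tensorPow hIi j), InvCl.mk_mul]
      exact InvCl.mk_eq _ _ e
  have hf : ∀ n, f n = Curv2.euler k D ((Scheme.Modules.pullback I.subschemeι).obj (ClSub.idealMod (I ^ n))) := by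
    intro n
    obtain ⟨h, hh⟩ := hcl n
    show chiCl k _ (cl ^ n) = _
    rw [← hh]
    exact chiCl_structure_mk k D _ h
  -- periodicity
  have hclm : cl ^ m = 1 := by
    obtain ⟨h, hh⟩ := hcl m
    obtain ⟨e⟩ := nonempty_specialFibreIdeal_iso p
    obtain ⟨p0⟩ := exists_pullStructureIso I.subschemeι
    rw [← hh]
    refine InvCl.mk_eq _ isInvertible_structureModule ?_
    exact (Scheme.Modules.pullback I.subschemeι).mapIso (eqToIso (congrArg ClSub.idealMod hIm) ≪≫ e.symm) ≪≫ p0
  have hconst : ∀ n, f n = f 0 := fun n => by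
    show chiCl k _ (cl ^ n) = chiCl k _ (cl ^ 0)
    rw [pow_zero]
    exact chiCl_pow_eq k D (isCoh_structureModule D) cl m hm hclm n
  -- the filtration
  have hcohQ : ∀ n hn, Coh.IsCoh (Q n hn) := fun n hn => by
    haveI : IsClosedImmersion (b n hn ≫ ι) := by rw [hb n hn]; infer_instance
    haveI : IsClosedImmersion (b n hn) := IsClosedImmersion.of_comp (b n hn) ι
    haveI := LocallyOfFiniteType.isLocallyNoetherian (b n hn)
    exact isCoh_push_finite (b n hn) (isCoh_structureModule _)
  have hrec : ∀ n (hn : n ≤ m), Curv2.euler k P (Q n hn) = (n : ℤ) * f 0 := by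
    intro n
    induction n with
    | zero =>
      intro hn
      rw [Nat.cast_zero, zero_mul]
      refine euler_of_isZero k P ?_
      refine IsZero.of_iso ?_ (pullPushIso ι (eQ 0 hn)).symm
      rw [pow_zero]
      exact (Scheme.Modules.pullback ι).map_isZero (isZero_quotMod_one (X := X))
    | succ j ih =>
      intro hn
      have hj : j ≤ m := by omega
      obtain ⟨S, hS, ⟨e1⟩, ⟨e2⟩, ⟨e3⟩⟩ := Models7.exists_divSeq I (I ^ j) hI (Inters29.isEffCartier_pow hI j)
      let N := (Scheme.Modules.pullback I.subschemeι).obj (ClSub.idealMod (I ^ j))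
      have hJj := FlatMor12.IdealModGen.isInvertible_idealMod _ (Inters29.isEffCartier_pow hI j)
      have hN : PicF.IsInvertible N := PicLoc.isInvertible_pullback _ hJj
      have hMF : FlatMod.IsFinLocFree (ClSub.idealMod (I ^ j)) := fun x =>
        let ⟨U, hx, e⟩ := isFinLocFreeOfRank_one hJj x; ⟨U, 1, hx, e⟩
      let N₁ := (Coh.push d).obj N
      let f1 : S.X₁ ≅ (Coh.push ι).obj N₁ :=
        e1 ≪≫ tensorComm _ _ ≪≫ (projIso (f := I.subschemeι) hMF).app (Coh.structureModule D) ≪≫
          (Scheme.Modules.pushforward I.subschemeι).mapIso (tensorComm _ _ ≪≫ unitTensorIso N) ≪≫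
          (Scheme.Modules.pushforwardCongr hd).symm.app _ ≪≫ (Scheme.Modules.pushforwardComp d ι).symm.app _
      let f2 : S.X₂ ≅ (Coh.push ι).obj (Q (j + 1) hn) :=
        e2 ≪≫ eqToIso (congrArg ClSub.quotMod (pow_succ' I j).symm) ≪≫ eQ (j + 1) hn
      let f3 : S.X₃ ≅ (Coh.push ι).obj (Q j hj) := e3 ≪≫ eQ j hj
      let g1 := pullPushIso ι f1
      let g2 := pullPushIso ι f2
      let g3 := pullPushIso ι f3
      haveI : IsLocallyNoetherian D := inferInstance
      have hc1 : Coh.IsCoh N₁ := isCoh_push_finite d (CurveRR24.isCoh_of_isInvertible k hN)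
      have h := euler_additive k P _ (shortExact_pull ι hS f1 f2)
        (isCoh_iso g1.symm hc1) (isCoh_iso g2.symm (hcohQ (j + 1) hn)) (isCoh_iso g3.symm (hcohQ j hj))
      haveI := isQCoh_of_isInvertible hN
      have he1 : Curv2.euler k P ((S.map (Scheme.Modules.pullback ι)).X₁) = f j := by
        rw [hf, AbCubeLib.euler_push k d rfl N]
        exact euler_congr k P g1
      have he2 := euler_congr k P g2
      have he3 := euler_congr k P g3
      change Curv2.euler k P (S.map (Scheme.Modules.pullback ι)).X₂ = _ at he2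
      change Curv2.euler k P (S.map (Scheme.Modules.pullback ι)).X₃ = _ at he3
      rw [he1, he2, he3, ih hj, hconst j] at h
      rw [h]; push_cast; ring
  -- the whole fibre
  have hfull := hrec m le_rfl
  refine ⟨f 0, ?_⟩
  rw [← hfull]
  let bm := b m le_rfl
  haveI : IsIso bm := by
    have : ι.ker = (I ^ m).subschemeι.ker := by rw [hker, Scheme.IdealSheafData.ker_subschemeι]
    exact IsClosedImmersion.isIso_lift ι _ this
  haveI := CI14.isIso_clUnit_of_isIso bm (Coh.structureModule P)
  obtain ⟨p0⟩ := exists_pullStructureIso bm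
  exact euler_congr k P (asIso (clUnit bm (Coh.structureModule P)) ≪≫ (Coh.push bm).mapIso p0)

end Groth.Agent.EulerMult7
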